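/-
Two-groups with a uniserial bottom of length four and a large centraliser of the third centre.
-/
import Cfsg.Agent.Lib.Coprime.PGroupFrattini
import Mathlib.GroupTheory.Nilpotent
import Mathlib.GroupTheory.Frattini
import Mathlib.GroupTheory.Index

set_option autoImplicit false

namespace CfsgLib.PGroup.RudvalisType

open Subgroup
open scoped commutatorElement

abbrev C2 := Multiplicative (ZMod 2)

/-- In a group with squares and commutators in `F`, an element outside `F` is missed by a kernel of index two. -/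
theorem exists_hom {G : Type*} [Group G] [Finite G] {F : Subgroup G} (hsq : ∀ x : G, x * x ∈ F)
    (hcm : ∀ x y : G, ⁅x, y⁆ ∈ F) {s : G} (hs : s ∉ F) : ∃ ψ : G →* C2, F ≤ ψ.ker ∧ ψ s ≠ 1 := by
  classical
  obtain ⟨M, ⟨hFM, hsM⟩, hmax⟩ :=
    (Set.toFinite {M : Subgroup G | F ≤ M ∧ s ∉ M}).exists_maximal ⟨F, le_rfl, hs⟩
  haveI hn : M.Normal := ⟨fun m hm g => by
    rw [show g * m * g⁻¹ = ⁅g, m⁆ * m by simp [commutatorElement_def]]
    exact mul_mem (hFM (hcm g m)) hm⟩
  have hall : ∀ y, y ∉ M → y * s ∈ M := by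
    intro y hy
    have hsy : s ∈ M ⊔ zpowers y := by
      by_contra h
      exact hy (hmax ⟨hFM.trans le_sup_left, h⟩ le_sup_left (mem_sup_right (mem_zpowers y)))
    obtain ⟨m, hm, w, hw, e⟩ := mem_sup_of_normal_left.1 hsy
    obtain ⟨k, rfl⟩ := mem_zpowers_iff.1 hw
    have hy2 : ∀ j : ℤ, y ^ (2 * j) ∈ M := fun j => by
      rw [zpow_mul, zpow_two]; exact zpow_mem (hFM (hsq y)) j
    rcases Int.even_or_odd' k with ⟨j, rfl | rfl⟩
    · exact absurd (e ▸ mul_mem hm (hy2 j)) hsM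
    · rw [← e, show y * (m * y ^ (2 * j + 1)) = (y * m * y⁻¹) * (y * y ^ (2 * j) * y) by
        rw [zpow_add_one]; group, show y * y ^ (2 * j) * y = y ^ (2 * (j + 1)) by
        rw [← zpow_one_add, ← zpow_add_one]; congr 1; ring]
      exact mul_mem (hn.conj_mem m hm y) (hy2 _)
  have hidx : M.index = 2 := index_eq_two_iff.2 ⟨s, fun b => by
    by_cases hb : b ∈ M
    · exact Or.inr ⟨hb, fun h => hsM ((M.mul_mem_cancel_left hb).1 h)⟩
    · exact Or.inl ⟨hall b hb, hb⟩⟩
  refine ⟨MonoidHom.mk' (fun p => if p ∈ M then 1 else Multiplicative.ofAdd 1) fun a b => ?_, fun x hx => ?_, ?_⟩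
  · have h := Subgroup.mul_mem_iff_of_index_two hidx (a := a) (b := b)
    by_cases h1 : a ∈ M <;> by_cases h2 : b ∈ M <;> simp [h, h1, h2] <;> decide
  · simp [MonoidHom.mem_ker, hFM hx]
  · simp [hsM]

variable (T : Type*) [Group T] [Finite T]

/-- The hypotheses. -/
structure Hyp : Prop where
  hT : IsPGroup 2 T
  ha : 2 ^ 14 ≤ Nat.card T
  hb : Nat.card ↥(Subgroup.upperCentralSeries T 4) = 16
  hc : Nat.card ↥(frattini ↥(centralizer ((Subgroup.upperCentralSeries T 3 : Subgroup T) : Set T))) ≤ 8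
  hd : ∀ U : Subgroup ↥(centralizer ((Subgroup.upperCentralSeries T 3 : Subgroup T) : Set T)), U.index ≤ 16 →
    frattini ↥(centralizer ((Subgroup.upperCentralSeries T 3 : Subgroup T) : Set T)) ≤ U

/-- Abbreviation for the upper central series. -/
abbrev Z (k : ℕ) : Subgroup T := Subgroup.upperCentralSeries T k

/-- The centraliser of the third centre. -/
abbrev W : Subgroup T := centralizer ((Subgroup.upperCentralSeries T 3 : Subgroup T) : Set T)

variable {T}

theorem Z_mono {i j : ℕ} (h : i ≤ j) : Z T i ≤ Z T j := Subgroup.upperCentralSeries_mono T h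

theorem cm_mem {k : ℕ} {x : T} (hx : x ∈ Z T (k + 1)) (y : T) : ⁅x, y⁆ ∈ Z T k :=
  Subgroup.mem_upperCentralSeries_succ_iff.1 hx y

theorem conj_div_mem {k : ℕ} {x : T} (hx : x ∈ Z T (k + 1)) (t : T) : t * x * t⁻¹ * x⁻¹ ∈ Z T k := by
  have := inv_mem (cm_mem hx t)
  rwa [commutatorElement_inv, commutatorElement_def] at this

/-- A set larger than a normal subgroup has a member outside it that is central modulo it. -/
theorem meet [Group.IsNilpotent T] {N K : Subgroup T} [N.Normal] [K.Normal] (h : ¬ N ≤ K) :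
    ∃ x ∈ N, x ∉ K ∧ ∀ t : T, ⁅x, t⁆ ∈ K := by
  classical
  obtain ⟨n, hn⟩ := (inferInstance : Group.IsNilpotent T).nilpotent
  have hex : ∃ m, ¬ N ⊓ Z T m ≤ K := ⟨n, by rwa [Z, hn, inf_top_eq]⟩
  obtain ⟨m, hm⟩ : ∃ m, Nat.find hex = m + 1 := Nat.exists_eq_succ_of_ne_zero fun e => by
    have := Nat.find_spec hex
    rw [e, Z, Subgroup.upperCentralSeries_zero, inf_bot_eq] at this
    exact this bot_le
  have hspec := Nat.find_spec hex
  rw [hm] at hspec
  obtain ⟨x, ⟨hxN, hxZ⟩, hxK⟩ := SetLike.not_le_iff_exists.1 hspec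
  refine ⟨x, hxN, hxK, fun t => ?_⟩
  have hlow : N ⊓ Z T m ≤ K := not_not.1 (Nat.find_min hex (by omega))
  refine hlow ⟨?_, cm_mem hxZ t⟩
  rw [commutatorElement_def, mul_assoc, mul_assoc, ← mul_assoc t]
  exact mul_mem hxN (Subgroup.Normal.conj_mem inferInstance _ (inv_mem hxN) t)

theorem mem_or {H K : Subgroup T} (hle : H ≤ K) (hc : Nat.card K = 2 * Nat.card H) {z : T} (hz : z ∈ K)
    (hz' : z ∉ H) {x : T} (hx : x ∈ K) : x ∈ H ∨ z⁻¹ * x ∈ H := by
  have h1 : (H.subgroupOf K).index = 2 := by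
    have h1 := Subgroup.index_mul_card (H.subgroupOf K)
    rw [Nat.card_congr (subgroupOfEquivOfLe hle).toEquiv, hc, mul_left_inj' Nat.card_pos.ne'] at h1
    exact h1
  by_cases hxH : x ∈ H
  · exact Or.inl hxH
  · exact Or.inr ((Subgroup.mul_mem_iff_of_index_two h1 (a := (⟨z⁻¹, inv_mem hz⟩ : K)) (b := ⟨x, hx⟩)).2
      (iff_of_false (fun h => hz' (inv_mem_iff.1 h)) (fun h => hxH h)))

namespace Hyp

variable (H : Hyp T)
include H

theorem nilpotent : Group.IsNilpotent T :=
  haveI : Fact (Nat.Prime 2) := ⟨Nat.prime_two⟩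
  H.hT.isNilpotent

theorem Z_step {k : ℕ} (hk : k < 4) : 2 * Nat.card (Z T k) ≤ Nat.card (Z T (k + 1)) := by
  haveI : Fact (Nat.Prime 2) := ⟨Nat.prime_two⟩
  haveI := H.nilpotent
  have hne : ¬ (⊤ : Subgroup T) ≤ Z T k := fun h => by
    have h4 : (⊤ : Subgroup T) ≤ Z T 4 := h.trans (Z_mono hk.le)
    have h1 := Subgroup.card_le_of_le h4
    rw [Subgroup.card_top, Z, H.hb] at h1
    have := H.ha
    omega
  obtain ⟨x, -, hx, hxc⟩ := meet hne
  have hlt : Nat.card (Z T k) < Nat.card (Z T (k + 1)) :=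
    lt_of_le_of_ne (Subgroup.card_le_of_le (Z_mono (Nat.le_succ k))) fun e => hx ((Subgroup.eq_of_le_of_card_ge
      (Z_mono (Nat.le_succ k)) e.ge).ge (Subgroup.mem_upperCentralSeries_succ_iff.2 hxc))
  obtain ⟨a, ha⟩ := (H.hT.to_subgroup (Z T k)).exists_card_eq
  obtain ⟨b, hb⟩ := (H.hT.to_subgroup (Z T (k + 1))).exists_card_eq
  rw [ha, hb] at hlt ⊢
  rw [← pow_succ']
  exact Nat.pow_le_pow_right (by norm_num) ((Nat.pow_lt_pow_iff_right (by norm_num)).1 hlt)

theorem card_Z {k : ℕ} (hk : k ≤ 4) : Nat.card (Z T k) = 2 ^ k := by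
  have h0 : Nat.card (Z T 0) = 1 := by rw [Z, Subgroup.upperCentralSeries_zero, Subgroup.card_bot]
  have h1 := H.Z_step (k := 0) (by norm_num)
  have h2 := H.Z_step (k := 1) (by norm_num)
  have h3 := H.Z_step (k := 2) (by norm_num)
  have h4 := H.Z_step (k := 3) (by norm_num)
  have h5 : Nat.card (Z T 4) = 16 := H.hb
  simp only [Nat.reduceAdd] at h1 h2 h3 h4
  interval_cases k <;> omega

theorem normal_cases {N : Subgroup T} [N.Normal] : ∀ {k : ℕ}, k ≤ 3 → ¬ N ≤ Z T k → Z T (k + 1) ≤ N := by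
  haveI := H.nilpotent
  intro k
  induction k with
  | zero =>
    intro _ h
    obtain ⟨x, hxN, hx, hxc⟩ := meet h
    have hle : Z T 0 ≤ N := by rw [Z, Subgroup.upperCentralSeries_zero]; exact bot_le
    intro y hy
    rcases mem_or (Z_mono (Nat.zero_le 1)) (by rw [H.card_Z (by norm_num), H.card_Z (by norm_num)]; rfl)
      (Subgroup.mem_upperCentralSeries_succ_iff.2 hxc) hx hy with h' | h'
    · exact hle h'
    · have := mul_mem hxN (hle h')
      rwa [mul_inv_cancel_left] at this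
  | succ k ih =>
    intro hk h
    have hle := ih (by omega) fun h' => h (h'.trans (Z_mono (Nat.le_succ k)))
    obtain ⟨x, hxN, hx, hxc⟩ := meet h
    intro y hy
    rcases mem_or (Z_mono (Nat.le_succ (k + 1))) (by rw [H.card_Z (by omega), H.card_Z (by omega), Nat.succ_eq_add_one, pow_succ']) 
      (Subgroup.mem_upperCentralSeries_succ_iff.2 hxc) hx hy with h' | h'
    · exact hle h'
    · have := mul_mem hxN (hle h')
      rwa [mul_inv_cancel_left] at this

theorem exists_Z_sub {k : ℕ} (hk : k ≤ 3) : ∃ x ∈ Z T (k + 1), x ∉ Z T k :=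
  SetLike.not_le_iff_exists.1 fun h => by
    have := Subgroup.card_le_of_le h
    rw [H.card_Z (by omega), H.card_Z (by omega), Nat.pow_le_pow_iff_right (by norm_num)] at this
    omega

theorem Z3_gen {z2 z3 : T} (h2 : z2 ∈ Z T 2) (h2' : z2 ∉ Z T 1) (h3 : z3 ∈ Z T 3) (h3' : z3 ∉ Z T 2) {t : T}
    (ht2 : Commute t z2) (ht3 : Commute t z3) : t ∈ W T := by
  refine mem_centralizer_iff.2 fun x hx => ?_
  have h1 : ∀ y ∈ Z T 1, Commute t y := fun y hy => by
    have := cm_mem hy t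
    rw [Z, Subgroup.upperCentralSeries_zero, Subgroup.mem_bot, commutatorElement_eq_one_iff_commute] at this
    exact this.symm
  have hstep2 : ∀ y ∈ Z T 2, Commute t y := fun y hy => by
    rcases mem_or (Z_mono (by norm_num)) (by rw [H.card_Z (by norm_num), H.card_Z (by norm_num)]; rfl) h2 h2' hy with
      h | h
    · exact h1 y h
    · have := ht2.mul_right (h1 _ h)
      rwa [mul_inv_cancel_left] at this
  have h : Commute t x := by
    rcases mem_or (Z_mono (by norm_num : 2 ≤ 3)) (by rw [H.card_Z (by norm_num), H.card_Z (by norm_num)]; rfl) h3 h3'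
      (show x ∈ Z T 3 from hx) with h | h
    · exact hstep2 x h
    · have := ht3.mul_right (hstep2 _ h)
      rwa [mul_inv_cancel_left] at this
  exact h.symm.eq

omit H in
theorem W_normal : (W T).Normal := inferInstance

theorem index_le : (W T).index ≤ 8 := by
  classical
  obtain ⟨z2, h2, h2'⟩ := H.exists_Z_sub (k := 1) (by norm_num)
  obtain ⟨z3, h3, h3'⟩ := H.exists_Z_sub (k := 2) (by norm_num)
  let f : T ⧸ W T → Z T 1 × Z T 2 := fun q =>
    (⟨q.out * z2 * q.out⁻¹ * z2⁻¹, conj_div_mem h2 _⟩, ⟨q.out * z3 * q.out⁻¹ * z3⁻¹, conj_div_mem h3 _⟩)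
  have hf : Function.Injective f := by
    intro p q h
    have e1 : p.out * z2 * p.out⁻¹ = q.out * z2 * q.out⁻¹ :=
      mul_right_cancel (congrArg (fun u => ((u.1 : Z T 1) : T)) h)
    have e2 : p.out * z3 * p.out⁻¹ = q.out * z3 * q.out⁻¹ :=
      mul_right_cancel (congrArg (fun u => ((u.2 : Z T 2) : T)) h)
    rw [← p.out_eq', ← q.out_eq', QuotientGroup.eq]
    refine H.Z3_gen h2 h2' h3 h3' ?_ ?_
    · calc p.out⁻¹ * q.out * z2 = p.out⁻¹ * (q.out * z2 * q.out⁻¹) * q.out := by group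
        _ = z2 * (p.out⁻¹ * q.out) := by rw [← e1]; group
    · calc p.out⁻¹ * q.out * z3 = p.out⁻¹ * (q.out * z3 * q.out⁻¹) * q.out := by group
        _ = z3 * (p.out⁻¹ * q.out) := by rw [← e2]; group
  have h := Nat.card_le_card_of_injective f hf
  rw [Nat.card_prod, H.card_Z (by norm_num), H.card_Z (by norm_num)] at h
  exact h

theorem card_W_ge : 2 ^ 11 ≤ Nat.card (W T) := by
  have h1 := Subgroup.index_mul_card (W T)
  have h2 := H.index_le
  have h3 := H.ha
  nlinarith

theorem Z4_le_W : Z T 4 ≤ W T := by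
  have hbig := H.card_W_ge
  have hnot : ∀ k ≤ 4, ¬ W T ≤ Z T k := fun k hk h => by
    have := Subgroup.card_le_of_le h
    rw [H.card_Z hk] at this
    have : 2 ^ k ≤ 2 ^ 4 := Nat.pow_le_pow_right (by norm_num) hk
    omega
  exact H.normal_cases (N := W T) (k := 3) le_rfl (hnot 3 (by norm_num))

theorem Z3_le_W : Z T 3 ≤ W T := (Z_mono (by norm_num)).trans H.Z4_le_W

theorem Z3_comm {z : T} (hz : z ∈ Z T 3) {w : T} (hw : w ∈ W T) : Commute z w :=
  mem_centralizer_iff.1 hw z hz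

theorem sq_frattini (u : W T) : u * u ∈ frattini (W T) := by
  haveI : Fact (Nat.Prime 2) := ⟨Nat.prime_two⟩
  rw [← sq]
  exact CfsgLib.Coprime.pow_mem_frattini (H.hT.to_subgroup _) u

theorem cm_frattini (u v : W T) : ⁅u, v⁆ ∈ frattini (W T) :=
  haveI : Fact (Nat.Prime 2) := ⟨Nat.prime_two⟩
  CfsgLib.Coprime.commutator_le_frattini (H.hT.to_subgroup _) (commutator_mem_commutator (mem_top u) (mem_top v))

end Hyp

/-- The map to functions on the quotient given by a linear form. -/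
noncomputable def twist (ψ : W T →* C2) : W T →* (T ⧸ W T → C2) where
  toFun w g := ψ ⟨g.out * w * g.out⁻¹, Subgroup.Normal.conj_mem inferInstance _ w.2 _⟩
  map_one' := funext fun g => by
    simp only [OneMemClass.coe_one, mul_one, mul_inv_cancel]
    exact map_one ψ
  map_mul' u v := funext fun g => by
    show ψ _ = ψ _ * ψ _
    rw [← map_mul]
    congr 1
    apply Subtype.ext
    simp only [Subgroup.coe_mul]
    group

theorem twist_apply (ψ : W T →* C2) (w : W T) (t : T) :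
    twist ψ w (t : T ⧸ W T) = ψ ⟨t * w * t⁻¹, Subgroup.Normal.conj_mem inferInstance _ w.2 _⟩ := by
  obtain ⟨u, hu⟩ := QuotientGroup.mk_out_eq_mul (W T) t
  let a : W T := ⟨t * u * t⁻¹, Subgroup.Normal.conj_mem inferInstance _ u.2 _⟩
  let b : W T := ⟨t * w * t⁻¹, Subgroup.Normal.conj_mem inferInstance _ w.2 _⟩
  have h : (⟨(t : T ⧸ W T).out * w * (t : T ⧸ W T).out⁻¹,
      Subgroup.Normal.conj_mem inferInstance _ w.2 _⟩ : W T) = a * b * a⁻¹ := by
    apply Subtype.ext
    simp only [a, b, Subgroup.coe_mul, InvMemClass.coe_inv, hu]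
    group
  show ψ _ = ψ b
  rw [h, map_mul, map_mul, map_inv, mul_comm (ψ a), mul_inv_cancel_right]

/-- The module structure. -/
structure Basis (T : Type*) [Group T] [Finite T] where
  ψ : W T →* C2
  ker : ∀ w : W T, twist ψ w = 1 ↔ (w : T) ∈ Z T 3
  surj : Function.Surjective (twist ψ)
  one : ∀ w : W T, (w : T) ∈ Z T 4 → (w : T) ∉ Z T 3 → ψ w ≠ 1

namespace Hyp

variable (H : Hyp T)
include H

/-- The bound on the orders. -/
theorem main_bound : Nat.card T = 2 ^ 14 ∧ (W T).index = 8 ∧ Nat.card (W T) = 2 ^ 11 ∧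
    (frattini (W T)).map (W T).subtype = Z T 3 ∧ Nonempty (Basis T) := by
  classical
  haveI : Fact (Nat.Prime 2) := ⟨Nat.prime_two⟩
  haveI := H.nilpotent
  obtain ⟨F, hF⟩ : ∃ F, F = (frattini (W T)).map (W T).subtype := ⟨_, rfl⟩
  haveI hFn : F.Normal := hF ▸ ConjAct.normal_of_characteristic_of_normal
  have hF8 : Nat.card F ≤ 8 := by rw [hF, card_map_of_injective (W T).subtype_injective]; exact H.hc
  have hF3 : F ≤ Z T 3 := by
    by_contra h
    have h1 := Subgroup.card_le_of_le (H.normal_cases (N := F) le_rfl h)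
    rw [H.card_Z le_rfl] at h1
    omega
  obtain ⟨k, hk3, hFk⟩ : ∃ k ≤ 3, F = Z T k := by
    have hex : ∃ k, F ≤ Z T k := ⟨3, hF3⟩
    refine ⟨Nat.find hex, Nat.find_le hF3, le_antisymm (Nat.find_spec hex) ?_⟩
    rcases Nat.eq_zero_or_pos (Nat.find hex) with h0 | h0
    · rw [h0, Z, Subgroup.upperCentralSeries_zero]; exact bot_le
    · obtain ⟨j, hj⟩ : ∃ j, Nat.find hex = j + 1 := ⟨Nat.find hex - 1, by omega⟩
      have h3 : Nat.find hex ≤ 3 := Nat.find_le hF3
      rw [hj]
      exact H.normal_cases (N := F) (by omega) (Nat.find_min hex (by omega))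
  have hmemF : ∀ w : W T, (w : T) ∈ F ↔ w ∈ frattini (W T) := fun w => by
    rw [hF]; exact Subgroup.mem_map_iff_mem (W T).subtype_injective
  obtain ⟨s, hs, hs'⟩ := H.exists_Z_sub hk3
  have hsW : s ∈ W T := H.Z4_le_W (Z_mono (by omega) hs)
  obtain ⟨ψ, hψF, hψs⟩ := exists_hom (F := frattini (W T)) H.sq_frattini H.cm_frattini (s := ⟨s, hsW⟩)
    fun h => hs' (hFk ▸ (hmemF _).2 h)
  obtain ⟨K, hK⟩ : ∃ K, K = (twist ψ).ker.map (W T).subtype := ⟨_, rfl⟩
  have hKmem : ∀ w : W T, (w : T) ∈ K ↔ twist ψ w = 1 := fun w => by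
    rw [hK]; exact (Subgroup.mem_map_iff_mem (W T).subtype_injective).trans MonoidHom.mem_ker
  haveI hKn : K.Normal := ⟨fun a ha t => by
    rw [hK] at ha ⊢
    obtain ⟨w, hw, rfl⟩ := ha
    refine ⟨⟨t * w * t⁻¹, Subgroup.Normal.conj_mem inferInstance _ w.2 _⟩, MonoidHom.mem_ker.2 (funext fun g => ?_), rfl⟩
    induction g using QuotientGroup.induction_on with
    | _ r =>
      rw [twist_apply]
      have h1 := congrFun (MonoidHom.mem_ker.1 hw) ((r * t : T) : T ⧸ W T)
      rw [twist_apply] at h1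
      exact Eq.trans (congrArg ψ (Subtype.ext (by simp only [Subgroup.coe_mul]; group))) h1⟩
  have hFK : F ≤ K := by
    intro a ha
    obtain ⟨w, hw, rfl⟩ := (hF ▸ ha : a ∈ (frattini (W T)).map (W T).subtype)
    refine (hKmem w).2 (funext fun g => ?_)
    induction g using QuotientGroup.induction_on with
    | _ r =>
      rw [twist_apply]
      exact MonoidHom.mem_ker.1 (hψF ((hmemF _).1 (hFn.conj_mem _ ((hmemF w).2 hw) r)))
  have hKle : K = F := by
    refine le_antisymm (hFk ▸ ?_) hFK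
    by_contra h
    have h1 : s ∈ K := H.normal_cases (N := K) hk3 h hs
    have h2 := congrFun ((hKmem ⟨s, hsW⟩).1 h1) ((1 : T) : T ⧸ W T)
    rw [twist_apply] at h2
    exact hψs (Eq.trans (congrArg ψ (Subtype.ext (by simp))) h2)
  have hcount : Nat.card (W T) = Nat.card (twist ψ).range * 2 ^ k := by
    have h := Subgroup.index_mul_card (twist ψ).ker
    rw [index_ker, ← card_map_of_injective (W T).subtype_injective (K := (twist ψ).ker), ← hK, hKle, hFk,
      H.card_Z (by omega)] at h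
    exact h.symm
  have hfun : Nat.card (T ⧸ W T → C2) = 2 ^ (W T).index := by
    rw [Nat.card_fun]
    congr 1
    simp
  have hrange : Nat.card (twist ψ).range ≤ 2 ^ (W T).index := hfun ▸ Subgroup.card_le_card_group _
  have hidx := H.index_le
  have hW := H.card_W_ge
  have hT := Subgroup.index_mul_card (W T)
  have h8 : 2 ^ (W T).index ≤ 2 ^ 8 := Nat.pow_le_pow_right (by norm_num) hidx
  have hk : k = 3 := by
    by_contra hne
    have : 2 ^ k ≤ 2 ^ 2 := Nat.pow_le_pow_right (by norm_num) (by omega)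
    nlinarith
  subst hk
  have hi : (W T).index = 8 := by
    by_contra hne
    have : 2 ^ (W T).index ≤ 2 ^ 7 := Nat.pow_le_pow_right (by norm_num) (by omega)
    nlinarith
  have hrange' : Nat.card (twist ψ).range = 2 ^ 8 := by
    rw [hi] at hrange
    nlinarith
  have hW11 : Nat.card (W T) = 2 ^ 11 := by rw [hcount, hrange']; norm_num
  refine ⟨by rw [← hT, hi, hW11]; norm_num, hi, hW11, hF ▸ hFk, ⟨⟨ψ, fun w => ?_, ?_, ?_⟩⟩⟩
  · rw [← hKmem, hKle, hFk]
  · rw [← MonoidHom.range_eq_top]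
    exact Subgroup.eq_top_of_card_eq _ (by rw [hrange', hfun, hi])
  · intro w h4 h3 h1
    rcases mem_or (Z_mono (by norm_num : 3 ≤ 4)) (by rw [H.card_Z le_rfl, H.card_Z (by norm_num)]; rfl) hs hs' h4 with
      h | h
    · exact h3 h
    · obtain ⟨v, hv⟩ : ∃ v : W T, v = ⟨s, hsW⟩⁻¹ * w := ⟨_, rfl⟩
      have hvF : v ∈ frattini (W T) := (hmemF v).1 (by rw [hFk, hv]; exact h)
      have h2 : ψ v = 1 := MonoidHom.mem_ker.1 (hψF hvF)
      rw [hv, map_mul, map_inv, h1, mul_one, inv_eq_one] at h2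
      exact hψs h2

end Hyp

end CfsgLib.PGroup.RudvalisType
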