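/-
The five-dimensional singular subspace contradicting the index hypothesis.
-/
import Cfsg.Agent.Lib.PGroup.RudvalisType.Basic
import Mathlib.Algebra.BigOperators.Pi

set_option autoImplicit false

namespace CfsgLib.PGroup.RudvalisType

open Subgroup
open scoped commutatorElement

variable {T : Type*} [Group T] [Finite T]

/-- The class of an element of `Z 3` modulo `Z 2`. -/
noncomputable def phi (g : T) : ZMod 2 :=
  haveI := Classical.propDecidable (g ∈ Z T 2)
  if g ∈ Z T 2 then 0 else 1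

theorem phi_eq_zero {g : T} : phi g = 0 ↔ g ∈ Z T 2 := by
  unfold phi; split <;> simp [*]

theorem phi_inv (g : T) : phi g⁻¹ = phi g := by
  unfold phi; split <;> split <;> simp_all [inv_mem_iff]

theorem phi_conj (t g : T) : phi (t * g * t⁻¹) = phi g := by
  have h : t * g * t⁻¹ ∈ Z T 2 ↔ g ∈ Z T 2 := ⟨fun h => by
    simpa [mul_assoc] using Subgroup.Normal.conj_mem inferInstance _ h t⁻¹,
    fun h => Subgroup.Normal.conj_mem inferInstance _ h t⟩
  unfold phi; split <;> split <;> simp_all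

namespace Hyp

variable (H : Hyp T)
include H

theorem phi_mul {a b : T} (ha : a ∈ Z T 3) (hb : b ∈ Z T 3) : phi (a * b) = phi a + phi b := by
  have h1 : ((Z T 2).subgroupOf (Z T 3)).index = 2 := by
    have h1 := Subgroup.index_mul_card ((Z T 2).subgroupOf (Z T 3))
    rw [Nat.card_congr (subgroupOfEquivOfLe (Z_mono (by norm_num : 2 ≤ 3))).toEquiv, H.card_Z (by norm_num),
      H.card_Z (by norm_num)] at h1
    omega
  have h := Subgroup.mul_mem_iff_of_index_two h1 (a := (⟨a, ha⟩ : Z T 3)) (b := ⟨b, hb⟩)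
  simp only [mem_subgroupOf, Subgroup.coe_mul] at h
  by_cases h2 : a ∈ Z T 2 <;> by_cases h3 : b ∈ Z T 2 <;> simp [phi, h, h2, h3] <;> decide

theorem frattini_le : ∀ u : W T, u ∈ frattini (W T) → (u : T) ∈ Z T 3 := fun _ hu =>
  H.main_bound.2.2.2.1.le (Subgroup.mem_map_of_mem _ hu)

theorem sq_mem (u : W T) : (u : T) * u ∈ Z T 3 := H.frattini_le _ (H.sq_frattini u)

theorem cm_mem3 (u v : W T) : ((⁅u, v⁆ : W T) : T) ∈ Z T 3 := H.frattini_le _ (H.cm_frattini u v)

omit H in
/-- The commutator form. -/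
noncomputable def beta (u v : W T) : ZMod 2 := phi ((⁅u, v⁆ : W T) : T)

theorem beta_comm (u v : W T) : beta u v = beta v u := by
  rw [beta, beta, ← commutatorElement_inv u v, Subgroup.coe_inv, phi_inv]

omit H in
theorem beta_self (u : W T) : beta u u = 0 := by
  rw [beta, commutatorElement_self, phi_eq_zero]; exact one_mem _

theorem cm_mul (u v v' : W T) : ⁅u, v * v'⁆ = ⁅u, v⁆ * ⁅u, v'⁆ := by
  have hc : Commute ((⁅u, v'⁆ : W T) : T) (v : T) := H.Z3_comm (H.cm_mem3 u v') v.2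
  have hc' : v * ⁅u, v'⁆ * v⁻¹ = ⁅u, v'⁆ := by
    rw [← (show Commute ⁅u, v'⁆ v from Subtype.ext hc).eq, mul_inv_cancel_right]
  calc ⁅u, v * v'⁆ = ⁅u, v⁆ * (v * ⁅u, v'⁆ * v⁻¹) := by simp [commutatorElement_def, mul_assoc]
    _ = _ := by rw [hc']

theorem beta_mul (u v v' : W T) : beta u (v * v') = beta u v + beta u v' := by
  rw [beta, beta, beta, H.cm_mul, Subgroup.coe_mul, H.phi_mul (H.cm_mem3 u v) (H.cm_mem3 u v')]

theorem beta_mul_left (u u' v : W T) : beta (u * u') v = beta u v + beta u' v := by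
  rw [H.beta_comm, H.beta_mul, H.beta_comm v u, H.beta_comm v u']

omit H in
theorem beta_conj (t : T) (u v : W T) :
    beta (⟨t * u * t⁻¹, Subgroup.Normal.conj_mem inferInstance _ u.2 _⟩ : W T)
      ⟨t * v * t⁻¹, Subgroup.Normal.conj_mem inferInstance _ v.2 _⟩ = beta u v := by
  have e : ∀ a b : W T, ((⁅a, b⁆ : W T) : T) = ⁅(a : T), (b : T)⁆ := fun a b => by simp [commutatorElement_def]
  rw [beta, beta, e, e, ← phi_conj t ⁅(u : T), (v : T)⁆]
  congr 1
  simp [commutatorElement_def, mul_assoc]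

end Hyp

/-- The conjugate of an element of `W`. -/
def cw (t : T) (u : W T) : W T := ⟨t * u * t⁻¹, Subgroup.Normal.conj_mem inferInstance _ u.2 _⟩

theorem cw_mul (s t : T) (u : W T) : cw s (cw t u) = cw (s * t) u :=
  Subtype.ext (by simp [cw, mul_assoc])

theorem cw_one (u : W T) : cw 1 u = u := Subtype.ext (by simp [cw])

/-- The sums defining the subspace. -/
abbrev Pt := Fin 4 × Fin 2

/-- The five vectors. -/
def vec : Fin 5 → Pt → ZMod 2 :=
  fun j p => if h : (j : ℕ) < 4 then (if p.1 = ⟨j, h⟩ then 1 else 0) else (if p = (0, 0) ∨ p = (1, 0) then 1 else 0)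

theorem vec_indep : ∀ e : Fin 5 → ZMod 2, (∀ p : Pt, ∑ j, e j * vec j p = 0) → e = 0 := by decide

namespace Hyp

variable (H : Hyp T)
include H

/-- The core contradiction. -/
theorem core_false (B : Basis T) (w₀ : W T) (τ : Pt → T)
    (hτ : Function.Bijective (fun p => (τ p : T ⧸ W T))) (hw : ∀ g : T, (g ∈ W T → B.ψ (cw g w₀) ≠ 1) ∧
      (g ∉ W T → B.ψ (cw g w₀) = 1))
    (hrad : ∀ (p : Pt) (i : Fin 4), beta (cw (τ p) w₀) (cw (τ (i, 0)) w₀) + beta (cw (τ p) w₀) (cw (τ (i, 1)) w₀) = 0)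
    (hb : beta (cw (τ (0, 0)) w₀) (cw (τ (1, 0)) w₀) = 0) : False := by
  classical
  haveI : Fact (Nat.Prime 2) := ⟨Nat.prime_two⟩
  obtain ⟨-, -, hW11, hF, -⟩ := H.main_bound
  let N : Subgroup (W T) := (Z T 2).subgroupOf (W T)
  haveI : N.Normal := inferInstance
  -- the five elements
  let v : Fin 5 → W T := fun j => if h : (j : ℕ) < 4 then cw (τ (⟨j, h⟩, 0)) w₀ * cw (τ (⟨j, h⟩, 1)) w₀
    else cw (τ (0, 0)) w₀ * cw (τ (1, 0)) w₀
  have hbv : ∀ p j, (j : Fin 5).val < 4 → beta (cw (τ p) w₀) (v j) = 0 := fun p j hj => by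
    simp only [v, dif_pos hj]
    rw [H.beta_mul]
    exact hrad p _
  have hcomm : ∀ i j, beta (v i) (v j) = 0 := by
    intro i j
    have hv : ∀ k, ∃ p q, v k = cw (τ p) w₀ * cw (τ q) w₀ := fun k => by
      by_cases hk : (k : ℕ) < 4
      · exact ⟨_, _, dif_pos hk⟩
      · exact ⟨_, _, dif_neg hk⟩
    by_cases hj : (j : ℕ) < 4
    · obtain ⟨p, q, e⟩ := hv i
      rw [e, H.beta_mul_left, hbv p j hj, hbv q j hj, add_zero]
    · by_cases hi : (i : ℕ) < 4
      · obtain ⟨p, q, e⟩ := hv j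
        rw [H.beta_comm, e, H.beta_mul_left, hbv p i hi, hbv q i hi, add_zero]
      · rw [show i = j from Fin.ext (by omega), beta_self]
  have hsq : ∀ j, (v j : T) * v j ∈ Z T 2 := by
    have key : ∀ (a : W T) (t s : T), beta (cw t a) (cw s a) = 0 →
        ((cw t a * cw s a : W T) : T) * ((cw t a * cw s a : W T) : T) ∈ Z T 2 := by
      intro a t s hb
      obtain ⟨u, hu⟩ : ∃ u, u = cw t a := ⟨_, rfl⟩
      obtain ⟨u', hu'⟩ : ∃ u', u' = cw s a := ⟨_, rfl⟩
      rw [← hu, ← hu'] at hb ⊢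
      have e : ((u * u' : W T) : T) * ((u * u' : W T) : T) =
          ((⁅u, u'⁆ : W T) : T) * ((u' : T) * ((u : T) * u) * (u' : T)⁻¹ * ((u' : T) * u')) := by
        simp [commutatorElement_def, mul_assoc]
      rw [← phi_eq_zero, e, (H.Z3_comm (H.sq_mem u) u'.2).symm.eq, mul_inv_cancel_right,
        H.phi_mul (H.cm_mem3 _ _) (mul_mem (H.sq_mem u) (H.sq_mem u')), H.phi_mul (H.sq_mem u) (H.sq_mem u')]
      have hsqa : ∀ r : T, phi ((cw r a : T) * cw r a) = phi ((a : T) * a) := fun r => by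
        rw [← phi_conj r ((a : T) * a)]
        congr 1
        simp [cw, mul_assoc]
      rw [show phi ((⁅u, u'⁆ : W T) : T) = 0 from hb, hu, hu', hsqa, hsqa, zero_add]
      exact CharTwo.add_self_eq_zero _
    intro j
    by_cases hj : (j : ℕ) < 4
    · simp only [v, dif_pos hj]
      refine key _ _ _ ?_
      have := hrad (⟨j, hj⟩, 0) ⟨j, hj⟩
      rwa [beta_self, zero_add] at this
    · simp only [v, dif_neg hj]
      exact key _ _ _ hb
  -- coordinates
  let Θ : W T →* (Pt → C2) := MonoidHom.mk' (fun w p => twist B.ψ w (((τ p)⁻¹ : T) : T ⧸ W T)) fun a b => by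
    funext p; simp [map_mul]
  have hΘ : ∀ p q, Θ (cw (τ q) w₀) p = Multiplicative.ofAdd (if p = q then 1 else 0 : ZMod 2) := by
    intro p q
    show twist B.ψ (cw (τ q) w₀) (((τ p)⁻¹ : T) : T ⧸ W T) = _
    rw [twist_apply]
    show B.ψ (cw (τ p)⁻¹ (cw (τ q) w₀)) = _
    rw [cw_mul]
    by_cases hpq : p = q
    · rw [if_pos hpq]
      have h := (hw ((τ p)⁻¹ * τ q)).1 (by rw [hpq, inv_mul_cancel]; exact one_mem _)
      revert h
      generalize B.ψ (cw ((τ p)⁻¹ * τ q) w₀) = a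
      revert a
      decide
    · rw [if_neg hpq, (hw _).2 fun h => hpq (hτ.1 (QuotientGroup.eq.2 h))]
      rfl
  have hΘv : ∀ j p, Θ (v j) p = Multiplicative.ofAdd (vec j p) := by
    intro j p
    by_cases hj : (j : ℕ) < 4
    · simp only [v, dif_pos hj, map_mul, Pi.mul_apply, hΘ, vec]
      rw [← ofAdd_add]
      congr 1
      obtain ⟨p1, p2⟩ := p
      fin_cases p2 <;> by_cases h : p1 = ⟨j, hj⟩ <;> simp [h]
    · simp only [v, dif_neg hj, map_mul, Pi.mul_apply, hΘ, vec]
      rw [← ofAdd_add]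
      congr 1
      by_cases h1 : p = (0, 0)
      · simp [h1]
      · by_cases h2 : p = (1, 0) <;> simp [h1, h2]
  have hΘN : N ≤ Θ.ker := fun n hn => by
    refine MonoidHom.mem_ker.2 (funext fun p => ?_)
    show twist B.ψ n _ = 1
    rw [(B.ker n).2 (Z_mono (by norm_num) (show (n : T) ∈ Z T 2 from hn))]
    rfl
  let Θ' : W T ⧸ N →* (Pt → C2) := QuotientGroup.lift N Θ hΘN
  -- the elementary subgroup they generate
  let V : Fin 5 → W T ⧸ N := fun j => QuotientGroup.mk' N (v j)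
  have hVc : ∀ i j, V i * V j = V j * V i := fun i j => by
    rw [← map_mul, ← map_mul]
    refine (QuotientGroup.eq (s := N)).2 ?_
    have h0 : beta (v j)⁻¹ (v i)⁻¹ = 0 := by
      have h1 : ∀ a b : W T, beta a⁻¹ b = beta a b := fun a b => by
        have := H.beta_mul_left a⁻¹ a b
        rw [inv_mul_cancel, show beta (1 : W T) b = 0 by rw [beta, commutatorElement_one_left, phi_eq_zero]; exact one_mem _]
          at this
        exact (CharTwo.add_eq_zero.1 this.symm)
      rw [h1, H.beta_comm, h1, hcomm]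
    have e : (v i * v j)⁻¹ * (v j * v i) = ⁅(v j)⁻¹, (v i)⁻¹⁆ := by simp [commutatorElement_def, mul_assoc]
    rw [e]
    exact phi_eq_zero.1 h0
  have hV2 : ∀ j, V j * V j = 1 := fun j => by
    rw [← map_mul]
    exact (QuotientGroup.eq_one_iff _).2 (hsq j)
  obtain ⟨A, hA⟩ : ∃ A, A = closure (Set.range V) := ⟨_, rfl⟩
  haveI : IsMulCommutative A := hA ▸ Subgroup.isMulCommutative_closure (by
    rintro _ ⟨i, rfl⟩ _ ⟨j, rfl⟩
    exact hVc i j)
  open scoped IsMulCommutative in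
  let ξ : Multiplicative (Fin 5 → ZMod 2) →* A :=
    MonoidHom.mk' (fun e => ∏ j, (⟨V j, hA ▸ subset_closure ⟨j, rfl⟩⟩ : A) ^ (Multiplicative.toAdd e j).val) fun a b => by
      rw [← Finset.prod_mul_distrib]
      refine Finset.prod_congr rfl fun j _ => ?_
      rw [← pow_add, toAdd_mul, Pi.add_apply, ZMod.val_add]
      exact (pow_eq_pow_mod _ (by rw [sq]; exact Subtype.ext (hV2 j))).symm
  let ξ' : Multiplicative (Fin 5 → ZMod 2) →* W T ⧸ N := A.subtype.comp ξ
  have hξ : ∀ e p, Θ' (ξ' e) p = Multiplicative.ofAdd (∑ j, Multiplicative.toAdd e j * vec j p) := by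
    intro e p
    show Θ' (A.subtype (∏ j, _)) p = _
    open scoped IsMulCommutative in rw [← MonoidHom.comp_apply, map_prod, Finset.prod_apply, ofAdd_sum]
    refine Finset.prod_congr rfl fun j _ => ?_
    rw [map_pow, Pi.pow_apply, MonoidHom.comp_apply]
    show Θ (v j) p ^ _ = _
    rw [hΘv, ← ofAdd_nsmul, nsmul_eq_mul, ZMod.natCast_zmod_val]
  have hinj : ∀ e, (∀ p, Θ' (ξ' e) p = 1) → e = 1 := fun e he => by
    have := vec_indep (Multiplicative.toAdd e) fun p => by
      have h := he p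
      rw [hξ] at h
      exact Multiplicative.ofAdd.injective h
    exact Multiplicative.toAdd.injective this
  have hξinj : Function.Injective ξ' := (injective_iff_map_eq_one ξ').2 fun e he => hinj e fun p => by
    rw [he, map_one]; rfl
  obtain ⟨U, hU⟩ : ∃ U, U = ξ'.range.comap (QuotientGroup.mk' N) := ⟨_, rfl⟩
  have hcardN : Nat.card N = 4 := by
    rw [Nat.card_congr (subgroupOfEquivOfLe ((Z_mono (by norm_num)).trans H.Z4_le_W)).toEquiv, H.card_Z (by norm_num)]
    rfl
  have hidx : U.index ≤ 16 := by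
    rw [hU, index_comap_of_surjective _ (QuotientGroup.mk'_surjective N)]
    have h1 := Subgroup.index_mul_card ξ'.range
    rw [← Nat.card_congr (MonoidHom.ofInjective hξinj).toEquiv] at h1
    have h2 := Subgroup.index_mul_card N
    rw [hcardN, hW11, Subgroup.index] at h2
    have h5 : Nat.card (Multiplicative (Fin 5 → ZMod 2)) = 32 := by simp [Nat.card_fun]
    rw [h5] at h1
    omega
  obtain ⟨z3, hz3, hz3'⟩ := H.exists_Z_sub (k := 2) (by norm_num)
  obtain ⟨⟨z, hzW⟩, hz, rfl⟩ := hF.ge hz3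
  have hzU : (⟨z, hzW⟩ : W T) ∈ U := H.hd U hidx hz
  rw [hU] at hzU
  obtain ⟨e, he⟩ := hzU
  have h1 : Θ ⟨z, hzW⟩ = 1 := funext fun p => by
    show twist B.ψ _ _ = 1
    rw [(B.ker _).2 hz3]
    rfl
  have he1 := hinj e fun p => by
    rw [he]
    exact congrFun h1 p
  rw [he1, map_one, eq_comm] at he
  exact hz3' ((QuotientGroup.eq_one_iff (⟨z, hzW⟩ : W T)).1 he)

end Hyp

end CfsgLib.PGroup.RudvalisType
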