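/-
The centre and derived group of the centraliser of the third centre.
-/
import Cfsg.Agent.Lib.PGroup.RudvalisType.Core
import Mathlib.GroupTheory.SpecificGroups.Dihedral

set_option autoImplicit false

namespace CfsgLib.PGroup.RudvalisType

open Subgroup
open scoped commutatorElement

variable {T : Type*} [Group T] [Finite T]

/-- Triples multiplying like unitriangular matrices. -/
abbrev P3 := ZMod 2 × ZMod 2 × ZMod 2

/-- The product of triples. -/
def star (p q : P3) : P3 := (p.1 + q.1, p.2.1 + q.2.1, p.2.2 + q.2.2 + p.1 * q.2.1)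

/-- The inverse triple. -/
def pinv (p : P3) : P3 := (p.1, p.2.1, p.2.2 + p.1 * p.2.1)

/-- The labels of the eight translates. -/
def lbl (x : Fin 4 × Fin 2) : P3 := (if x.1.val < 2 then 0 else 1, if x.1.val % 2 = 0 then 0 else 1, x.2.val)

/-- The isomorphism with the dihedral group, on triples. -/
def toD4 (p : P3) : DihedralGroup 4 :=
  if p.1 = 0 then
    (if p.2.1 = 0 then (if p.2.2 = 0 then DihedralGroup.r 0 else DihedralGroup.r 2)
     else (if p.2.2 = 0 then DihedralGroup.sr 3 else DihedralGroup.sr 1))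
  else
    (if p.2.1 = 0 then (if p.2.2 = 0 then DihedralGroup.sr 0 else DihedralGroup.sr 2)
     else (if p.2.2 = 0 then DihedralGroup.r 1 else DihedralGroup.r 3))

theorem toD4_mul : ∀ p q : P3, toD4 (star p q) = toD4 p * toD4 q := by decide

theorem toD4_surj : ∀ g : DihedralGroup 4, ∃ p : P3, toD4 p = g := by decide

theorem toD4_eq_one : ∀ p : P3, toD4 p = 1 → p = 0 := by decide

theorem lbl_bij : Function.Bijective lbl := by decide

theorem star_pinv : ∀ p : P3, star (pinv p) p = 0 := by decide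

theorem lbl_next : ∀ (p : P3) (i : Fin 4),
    star p (lbl (i, 1)) = star (star p (lbl (i, 0))) (0, 0, 1) := by decide

namespace Hyp

variable (H : Hyp T)
include H

theorem exists_tr_ne (B : Basis T) :
    ∃ w₀ : W T, ∀ g : T, (g ∈ W T → B.ψ (cw g w₀) ≠ 1) ∧ (g ∉ W T → B.ψ (cw g w₀) = 1) := by
  classical
  obtain ⟨w₀, hw₀⟩ := B.surj fun g => if g = 1 then Multiplicative.ofAdd 1 else 1
  refine ⟨w₀, fun g => ?_⟩
  have h := congrFun hw₀ (g : T ⧸ W T)
  rw [twist_apply] at h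
  have e : cw g w₀ = ⟨g * w₀ * g⁻¹, Subgroup.Normal.conj_mem inferInstance _ w₀.2 _⟩ := rfl
  refine ⟨fun hg => ?_, fun hg => ?_⟩
  · rw [e, h, if_pos ((QuotientGroup.eq_one_iff g).2 hg)]
    decide
  · rw [e, h, if_neg fun h' => hg ((QuotientGroup.eq_one_iff g).1 h')]

theorem beta_left_W {u : W T} (hu : (u : T) ∈ Z T 3) (v : W T) : beta u v = 0 := by
  have : ⁅u, v⁆ = 1 := commutatorElement_eq_one_iff_commute.2 (Subtype.ext (H.Z3_comm hu v.2).eq)
  rw [beta, this, phi_eq_zero]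
  exact one_mem _

theorem cw_W {a : T} (ha : a ∈ W T) (s : T) (u v : W T) : beta u (cw (s * a) v) = beta u (cw s v) := by
  have e : cw (s * a) v = cw s v * cw s (v⁻¹ * ⟨a, ha⟩ * v * (⟨a, ha⟩ : W T)⁻¹) := by
    apply Subtype.ext; simp [cw, mul_assoc]
  rw [e, H.beta_mul]
  have h3 : ((cw s (v⁻¹ * ⟨a, ha⟩ * v * (⟨a, ha⟩ : W T)⁻¹) : W T) : T) ∈ Z T 3 := by
    refine Subgroup.Normal.conj_mem inferInstance _ ?_ s
    have := H.cm_mem3 v⁻¹ ⟨a, ha⟩
    rwa [commutatorElement_def, inv_inv] at this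
  rw [show beta u (cw s (v⁻¹ * ⟨a, ha⟩ * v * (⟨a, ha⟩ : W T)⁻¹)) = 0 from
    (H.beta_comm _ _).trans (H.beta_left_W h3 _), add_zero]

/-- The coordinates on the quotient by `W`. -/
theorem exists_coords {z3 : T} (h3 : z3 ∈ Z T 3) (h3' : z3 ∉ Z T 2) (hz3sq : z3 * z3 = 1) :
    ∃ κ : T → P3, Function.Surjective κ ∧ (∀ t s, κ (t * s) = star (κ t) (κ s)) ∧ (∀ t, κ t = 0 ↔ t ∈ W T) ∧
      (∀ t s, κ (t⁻¹ * s) = star (pinv (κ t)) (κ s)) ∧ (∀ t s, κ t = κ s → t⁻¹ * s ∈ W T) ∧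
      ∀ s x, (κ s).1 = 0 → κ s ≠ 0 → x ∈ Z T 3 → s * x * s⁻¹ = x → x ∈ Z T 2 := by
  classical
  haveI := H.nilpotent
  obtain ⟨-, hi, -, -, -⟩ := H.main_bound
  obtain ⟨t₂, ht₂⟩ : ∃ t : T, t * z3 * t⁻¹ * z3⁻¹ ∉ Z T 1 := by
    by_contra hc
    push Not at hc
    refine h3' (Subgroup.mem_upperCentralSeries_succ_iff.2 fun t => ?_)
    have := inv_mem (hc t)
    rwa [commutatorElement_def, show z3 * t * z3⁻¹ * t⁻¹ = (t * z3 * t⁻¹ * z3⁻¹)⁻¹ by group]
  obtain ⟨z2, hz2e⟩ : ∃ z, z = t₂ * z3 * t₂⁻¹ * z3⁻¹ := ⟨_, rfl⟩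
  rw [← hz2e] at ht₂
  have h2 : z2 ∈ Z T 2 := hz2e ▸ conj_div_mem h3 t₂
  have hz3W := H.Z3_le_W h3
  have hz2sq : z2 * z2 = 1 := by
    have hc : Commute (t₂ * z3 * t₂⁻¹) z3 :=
      H.Z3_comm (Subgroup.Normal.conj_mem inferInstance _ h3 t₂) hz3W
    have h1 : (t₂ * z3 * t₂⁻¹) * (t₂ * z3 * t₂⁻¹) = 1 := by
      rw [show t₂ * z3 * t₂⁻¹ * (t₂ * z3 * t₂⁻¹) = t₂ * (z3 * z3) * t₂⁻¹ by group, hz3sq, mul_one, mul_inv_cancel]
    rw [hz2e, inv_eq_of_mul_eq_one_left hz3sq]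
    calc t₂ * z3 * t₂⁻¹ * z3 * (t₂ * z3 * t₂⁻¹ * z3)
        = t₂ * z3 * t₂⁻¹ * (z3 * (t₂ * z3 * t₂⁻¹)) * z3 := by group
      _ = (t₂ * z3 * t₂⁻¹ * (t₂ * z3 * t₂⁻¹)) * (z3 * z3) := by rw [← hc.eq]; group
      _ = 1 := by rw [h1, hz3sq, mul_one]
  obtain ⟨z1, h1, h1'⟩ := H.exists_Z_sub (k := 0) (by norm_num)
  rw [Z, Subgroup.upperCentralSeries_zero, Subgroup.mem_bot] at h1'
  have hbot : ∀ x ∈ Z T 0, x = (1 : T) := fun x hx => by
    rwa [Z, Subgroup.upperCentralSeries_zero, Subgroup.mem_bot] at hx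
  have hz1z : ∀ x : T, Commute x z1 := fun x =>
    (commutatorElement_eq_one_iff_commute.1 (hbot _ (cm_mem h1 x))).symm
  have hsplit1 : ∀ x ∈ Z T 1, x = 1 ∨ x = z1 := fun x hx => by
    rcases mem_or (Z_mono (Nat.zero_le 1)) (by rw [H.card_Z (by norm_num), H.card_Z (by norm_num)]; rfl) h1
      (fun h => h1' (hbot _ h)) hx with h | h
    · exact Or.inl (hbot _ h)
    · exact Or.inr (inv_mul_eq_one.1 (hbot _ h)).symm
  have hz1sq : z1 * z1 = 1 := by
    rcases hsplit1 _ (mul_mem h1 h1) with h | h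
    · exact h
    · exact absurd (mul_eq_left.1 h) h1'
  have hpow : ∀ {x : T}, x * x = 1 → ∀ u v : ZMod 2, x ^ (u + v).val = x ^ u.val * x ^ v.val := by
    intro x hx u v
    rw [← pow_add, ZMod.val_add]
    exact (pow_eq_pow_mod _ (by rw [sq]; exact hx)).symm
  have hsplit2 : ∀ x ∈ Z T 2, ∃ b c : ZMod 2, x = z2 ^ b.val * z1 ^ c.val := fun x hx => by
    rcases mem_or (Z_mono (by norm_num : 1 ≤ 2)) (by rw [H.card_Z (by norm_num), H.card_Z (by norm_num)]; rfl) h2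
      ht₂ hx with h | h
    · rcases hsplit1 _ h with h | h
      · exact ⟨0, 0, by simp [h]⟩
      · exact ⟨0, 1, by simp [h, ZMod.val_one]⟩
    · rcases hsplit1 _ h with h | h
      · exact ⟨1, 0, by simp [(inv_mul_eq_one.1 h).symm, ZMod.val_one]⟩
      · exact ⟨1, 1, by simp [← h, ZMod.val_one]⟩
  -- the coordinates of an element
  let Act : T → P3 → Prop := fun t p =>
    t * z2 * t⁻¹ = z2 * z1 ^ p.1.val ∧ t * z3 * t⁻¹ = z3 * (z2 ^ p.2.1.val * z1 ^ p.2.2.val)
  have hex : ∀ t, ∃ p, Act t p := by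
    intro t
    obtain ⟨b, c, hbc⟩ := hsplit2 _ (conj_div_mem h3 t)
    have e3 : t * z3 * t⁻¹ = z3 * (z2 ^ b.val * z1 ^ c.val) := by
      rw [← hbc, (H.Z3_comm h3 (H.Z3_le_W (Z_mono (by norm_num) (conj_div_mem h3 t)))).eq, inv_mul_cancel_right]
    rcases hsplit1 _ (conj_div_mem h2 t) with h | h
    · exact ⟨(0, b, c), by simpa [mul_inv_eq_one] using h, e3⟩
    · refine ⟨(1, b, c), ?_, e3⟩
      rw [mul_inv_eq_iff_eq_mul] at h
      show _ = z2 * z1 ^ (1 : ZMod 2).val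
      rw [ZMod.val_one, pow_one, h, (hz1z z2).eq]
  have h01 : ∀ b : ZMod 2, b = 0 ∨ b = 1 := by decide
  have hpow1 : ∀ c c' : ZMod 2, z1 ^ c.val = z1 ^ c'.val → c = c' := by
    intro c c' h
    rcases h01 c with rfl | rfl <;> rcases h01 c' with rfl | rfl <;>
      simp only [ZMod.val_zero, ZMod.val_one, pow_zero, pow_one] at h <;>
      first | rfl | exact absurd h h1' | exact absurd h.symm h1'
  have huniq : ∀ t p q, Act t p → Act t q → p = q := by
    rintro t ⟨a, b, c⟩ ⟨a', b', c'⟩ ⟨ha, hb⟩ ⟨ha', hb'⟩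
    have e1 : a = a' := hpow1 _ _ (mul_left_cancel (ha.symm.trans ha'))
    have e2 := mul_left_cancel (hb.symm.trans hb')
    simp only at e2
    have e3 : b = b' := by
      have key : ∀ c c' : ZMod 2, z2 * z1 ^ c.val ≠ z1 ^ c'.val := fun c c' h => ht₂ (by
        rw [eq_mul_inv_of_mul_eq h]
        exact mul_mem (pow_mem h1 _) (inv_mem (pow_mem h1 _)))
      rcases h01 b with rfl | rfl <;> rcases h01 b' with rfl | rfl <;>
        simp only [ZMod.val_zero, ZMod.val_one, pow_zero, pow_one, one_mul] at e2 <;>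
        first | rfl | exact absurd e2 (key _ _) | exact absurd e2.symm (key _ _)
    subst e1 e3
    exact Prod.ext rfl (Prod.ext rfl (hpow1 _ _ (mul_left_cancel e2)))
  choose κ hκ using hex
  have hmul : ∀ t s, κ (t * s) = star (κ t) (κ s) := by
    intro t s
    refine huniq _ _ _ (hκ _) ?_
    obtain ⟨⟨a, ha⟩, ⟨a', ha'⟩⟩ := And.intro (hκ t) (hκ s)
    have hcz1 : ∀ n : ℕ, t * z1 ^ n * t⁻¹ = z1 ^ n := fun n => by
      rw [((hz1z t).pow_right n).eq, mul_inv_cancel_right]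
    have hb' : t * z2 ^ (κ s).2.1.val * t⁻¹ = z2 ^ (κ s).2.1.val * z1 ^ ((κ t).1 * (κ s).2.1).val := by
      generalize (κ s).2.1 = b
      rcases h01 b with rfl | rfl
      · simp
      · simpa [ZMod.val_one] using a
    constructor
    · show t * s * z2 * (t * s)⁻¹ = z2 * z1 ^ ((κ t).1 + (κ s).1).val
      rw [show t * s * z2 * (t * s)⁻¹ = t * (s * z2 * s⁻¹) * t⁻¹ by group, a',
        show t * (z2 * z1 ^ (κ s).1.val) * t⁻¹ = t * z2 * t⁻¹ * (t * z1 ^ (κ s).1.val * t⁻¹) by group,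
        a, hcz1, hpow hz1sq, mul_assoc]
    · show t * s * z3 * (t * s)⁻¹ = z3 * (z2 ^ ((κ t).2.1 + (κ s).2.1).val *
        z1 ^ ((κ t).2.2 + (κ s).2.2 + (κ t).1 * (κ s).2.1).val)
      rw [show t * s * z3 * (t * s)⁻¹ = t * (s * z3 * s⁻¹) * t⁻¹ by group, ha',
        show t * (z3 * (z2 ^ (κ s).2.1.val * z1 ^ (κ s).2.2.val)) * t⁻¹ = t * z3 * t⁻¹ *
          ((t * z2 ^ (κ s).2.1.val * t⁻¹) * (t * z1 ^ (κ s).2.2.val * t⁻¹)) by group,
        ha, hb', hcz1, hpow hz2sq, hpow hz1sq, hpow hz1sq]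
      simp only [mul_assoc]
      congr 2
      have hp : ∀ (m : ℕ) (x : T), z1 ^ m * x = x * z1 ^ m := fun m x => ((hz1z x).pow_right m).eq.symm
      rw [← mul_assoc (z1 ^ (κ t).2.2.val), hp, mul_assoc]
      congr 2
      rw [hp]
  have hκ0 : ∀ t, κ t = 0 ↔ t ∈ W T := by
    intro t
    refine ⟨fun h => ?_, fun h => huniq _ _ _ (hκ t) ?_⟩
    · obtain ⟨a, b⟩ := hκ t
      rw [h] at a b
      simp only [Prod.fst_zero, Prod.snd_zero, ZMod.val_zero, pow_zero, mul_one] at a b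
      exact H.Z3_gen h2 ht₂ h3 h3' (mul_inv_eq_iff_eq_mul.1 a) (mul_inv_eq_iff_eq_mul.1 b)
    · have e : ∀ z ∈ Z T 3, t * z * t⁻¹ = z := fun z hz => by
        rw [← (H.Z3_comm hz h).eq, mul_inv_cancel_right]
      exact ⟨by simpa using e z2 (Z_mono (by norm_num) h2), by simpa using e z3 h3⟩
  have hκinv : ∀ t s, κ (t⁻¹ * s) = star (pinv (κ t)) (κ s) := by
    intro t s
    have h0 : κ (1 : T) = 0 := (hκ0 1).2 (one_mem _)
    have hi : κ t⁻¹ = pinv (κ t) := by
      have key : ∀ p q : P3, star p q = 0 → p = pinv q := by decide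
      exact key _ _ (by rw [← hmul, inv_mul_cancel, h0])
    rw [hmul, hi]
  have hdiff : ∀ t s, κ t = κ s → t⁻¹ * s ∈ W T := fun t s h => (hκ0 _).1 (by rw [hκinv, h, star_pinv])
  have hκsurj : Function.Surjective κ := by
    have hinj : Function.Injective fun q : T ⧸ W T => κ q.out := fun p q h => by
      rw [← p.out_eq', ← q.out_eq', QuotientGroup.eq]
      exact hdiff _ _ h
    have hb := (Nat.bijective_iff_injective_and_card _).2 ⟨hinj, by
      rw [← Subgroup.index, hi]; simp [Nat.card_prod]⟩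
    intro p
    obtain ⟨q, hq⟩ := hb.2 p
    exact ⟨_, hq⟩
  refine ⟨κ, hκsurj, hmul, hκ0, hκinv, hdiff, fun s x hp hp0 hx3 hsx => ?_⟩
  by_contra hx
  obtain ⟨hs_2, hs_3⟩ := hκ s
  rw [hp, ZMod.val_zero, pow_zero, mul_one] at hs_2
  rcases mem_or (Z_mono (by norm_num : 2 ≤ 3)) (by rw [H.card_Z (by norm_num), H.card_Z (by norm_num)]; rfl) h3 h3'
    hx3 with h | h
  · exact hx h
  · obtain ⟨b, c, hbc⟩ := hsplit2 _ h
    have hfix : s * (z3⁻¹ * x) * s⁻¹ = z3⁻¹ * x := by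
      rw [hbc, show s * (z2 ^ b.val * z1 ^ c.val) * s⁻¹ = (s * z2 * s⁻¹) ^ b.val * (s * z1 ^ c.val * s⁻¹) by
        rw [conj_pow]; group, hs_2, ((hz1z s).pow_right _).eq, mul_inv_cancel_right]
    have hfix3 : s * z3 * s⁻¹ = z3 := by
      calc s * z3 * s⁻¹ = (s * x * s⁻¹) * (s * (z3⁻¹ * x) * s⁻¹)⁻¹ := by group
        _ = z3 := by rw [hsx, hfix]; group
    exact hp0 ((hκ0 s).2 (H.Z3_gen h2 ht₂ h3 h3' (mul_inv_eq_iff_eq_mul.1 hs_2) (mul_inv_eq_iff_eq_mul.1 hfix3)))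

/-- The fourth centre is not central modulo the second. -/
theorem not_central {σ : W T} (hσ : (σ : T) ∈ Z T 4) (hσ' : (σ : T) ∉ Z T 3) (hall : ∀ w : W T, beta σ w = 0) :
    False := by
  classical
  haveI : Fact (Nat.Prime 2) := ⟨Nat.prime_two⟩
  haveI := H.nilpotent
  obtain ⟨-, hi, -, hF, ⟨B⟩⟩ := H.main_bound
  obtain ⟨w₀, hw⟩ := H.exists_tr_ne B
  by_cases hab : ∀ u v : W T, beta u v = 0
  · have hcard : Nat.card (Pt) = Nat.card (T ⧸ W T) := by
      rw [← Subgroup.index, hi]; simp [Nat.card_prod]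
    obtain ⟨e⟩ := Finite.card_eq.1 hcard
    exact H.core_false B w₀ (fun p => (e p).out) (by simpa using e.bijective) hw
      (fun p i => by rw [hab, hab, add_zero]) (hab _ _)
  push Not at hab
  obtain ⟨u₁, u₂, hu⟩ := hab
  -- elements generating the third centre
  have hz3sq : ((⁅u₁, u₂⁆ : W T) : T) * ((⁅u₁, u₂⁆ : W T) : T) = 1 := by
    have h1 : ⁅u₁, u₂ * u₂⁆ = 1 := commutatorElement_eq_one_iff_commute.2
      (Subtype.ext (H.Z3_comm (H.sq_mem u₂) u₁.2).symm.eq)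
    rw [H.cm_mul] at h1
    exact congrArg Subtype.val h1
  obtain ⟨z3, hz3e⟩ : ∃ z, z = ((⁅u₁, u₂⁆ : W T) : T) := ⟨_, rfl⟩
  rw [← hz3e] at hz3sq
  have h3 : z3 ∈ Z T 3 := hz3e ▸ H.cm_mem3 u₁ u₂
  have h3' : z3 ∉ Z T 2 := fun h => hu (phi_eq_zero.2 (hz3e ▸ h))
  obtain ⟨κ, hκsurj, hmul, hκ0, hκinv, hdiff, hKfix⟩ := H.exists_coords h3 h3' hz3sq
  obtain ⟨rep, hrep⟩ : ∃ rep : P3 → T, ∀ p, κ (rep p) = p := ⟨Function.surjInv hκsurj, Function.surjInv_eq hκsurj⟩
  obtain ⟨f, hf⟩ : ∃ f : P3 → ZMod 2, f = fun p => beta w₀ (cw (rep p) w₀) := ⟨_, rfl⟩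
  have hft : ∀ t, beta w₀ (cw t w₀) = f (κ t) := by
    intro t
    conv_lhs => rw [show t = rep (κ t) * ((rep (κ t))⁻¹ * t) by group]
    rw [H.cw_W (hdiff _ _ (hrep _)), hf]
  have hbt : ∀ t s, beta (cw t w₀) (cw s w₀) = f (star (pinv (κ t)) (κ s)) := by
    intro t s
    rw [← hκinv, ← hft]
    conv_lhs => rw [show cw s w₀ = cw t (cw (t⁻¹ * s) w₀) by rw [cw_mul, mul_inv_cancel_left]]
    exact beta_conj t _ _
  have hf0 : f 0 = 0 := by
    rw [← (hκ0 1).2 (one_mem _), ← hft, cw_one, beta_self]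
  have hfinv : ∀ p, f (pinv p) = f p := by
    intro p
    have h0 : κ (1 : T) = 0 := (hκ0 1).2 (one_mem _)
    have key1 : ∀ q : P3, star (pinv q) 0 = pinv q := by decide
    have h1 := hbt (rep p) 1
    rw [hrep, h0, key1, cw_one, H.beta_comm, hft, hrep] at h1
    exact h1.symm
  -- the elements fixing the second centre only see the second centre
  have hfK : ∀ p : P3, p.1 = 0 → f p = 0 := by
    intro p hp
    by_cases hp0 : p = 0
    · rw [hp0, hf0]
    rw [← hrep p, ← hft]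
    obtain ⟨s, hs⟩ : ∃ s, s = rep p := ⟨_, rfl⟩
    rw [← hs, beta, phi_eq_zero]
    by_contra hx
    obtain ⟨x, hxe⟩ : ∃ x : T, x = ((⁅w₀, cw s w₀⁆ : W T) : T) := ⟨_, rfl⟩
    rw [← hxe] at hx
    have hx3 : x ∈ Z T 3 := hxe ▸ H.cm_mem3 _ _
    have hs2 : s * s ∈ W T := (hκ0 _).1 (by
      rw [hmul, hs, hrep]
      exact (by decide : ∀ q : P3, q.1 = 0 → star q q = 0) p hp)
    have hxx : x * x = 1 := by
      have h1 : ⁅w₀, cw s w₀ * cw s w₀⁆ = 1 := commutatorElement_eq_one_iff_commute.2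
        (Subtype.ext (H.Z3_comm (H.sq_mem (cw s w₀)) w₀.2).symm.eq)
      rw [H.cm_mul] at h1
      rw [hxe]
      exact congrArg Subtype.val h1
    have hsx : s * x * s⁻¹ = x := by
      have e1 : s * x * s⁻¹ = ((⁅cw s w₀, cw (s * s) w₀⁆ : W T) : T) := by
        rw [hxe]; simp [cw, commutatorElement_def, mul_assoc]
      have e3 : ⁅cw s w₀, cw (s * s) w₀⁆ = ⁅cw s w₀, w₀⁆ := by
        have h4 : cw (s * s) w₀ = w₀ * (w₀⁻¹ * ⟨s * s, hs2⟩ * w₀ * (⟨s * s, hs2⟩ : W T)⁻¹) := by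
          apply Subtype.ext; simp [cw, mul_assoc]
        have h5 : ((w₀⁻¹ * ⟨s * s, hs2⟩ * w₀ * (⟨s * s, hs2⟩ : W T)⁻¹ : W T) : T) ∈ Z T 3 := by
          have := H.cm_mem3 w₀⁻¹ ⟨s * s, hs2⟩
          rwa [commutatorElement_def, inv_inv] at this
        rw [h4, H.cm_mul, show ⁅cw s w₀, w₀⁻¹ * ⟨s * s, hs2⟩ * w₀ * (⟨s * s, hs2⟩ : W T)⁻¹⁆ = 1 from
          commutatorElement_eq_one_iff_commute.2 (Subtype.ext (H.Z3_comm h5 (cw s w₀).2).symm.eq), mul_one]
      rw [e1, e3, ← commutatorElement_inv w₀ (cw s w₀), Subgroup.coe_inv, ← hxe]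
      exact inv_eq_of_mul_eq_one_left hxx
    exact hx (hKfix s x (by rw [hs, hrep]; exact hp) (by rw [hs, hrep]; exact hp0) hx3 hsx)
  -- the sum over all translates
  have hsum : ∑ p, f p = 0 := by
    obtain ⟨γ, hγ⟩ : ∃ γ : W T →* C2, γ = MonoidHom.mk' (fun v => Multiplicative.ofAdd (beta w₀ v))
        fun a b => by rw [H.beta_mul]; rfl := ⟨_, rfl⟩
    have hkerγ : (twist B.ψ).ker ≤ γ.ker := fun v hv => by
      rw [MonoidHom.mem_ker, hγ]
      show Multiplicative.ofAdd (beta w₀ v) = 1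
      rw [H.beta_comm, H.beta_left_W ((B.ker v).1 hv)]
      rfl
    obtain ⟨χ, hχ⟩ : ∃ χ : (T ⧸ W T → C2) →* C2, ∀ v, χ (twist B.ψ v) = γ v :=
      ⟨(twist B.ψ).liftOfSurjective B.surj ⟨γ, hkerγ⟩, fun v => MonoidHom.liftOfRightInverse_comp_apply _ _ _ _ v⟩
    have hσ1 : twist B.ψ σ = fun _ => Multiplicative.ofAdd 1 := by
      funext g
      induction g using QuotientGroup.induction_on with
      | _ r =>
        rw [twist_apply]
        have h := B.one ⟨r * σ * r⁻¹, Subgroup.Normal.conj_mem inferInstance _ σ.2 _⟩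
          (Subgroup.Normal.conj_mem inferInstance _ hσ r)
          fun h => hσ' (by simpa [mul_assoc] using Subgroup.Normal.conj_mem inferInstance _ h r⁻¹)
        revert h
        generalize B.ψ _ = a
        revert a
        decide
    have hτ : Function.Bijective fun p => ((rep p : T) : T ⧸ W T) := by
      refine ⟨fun p q h => ?_, fun g => ?_⟩
      · have h' := (hκ0 _).2 (QuotientGroup.eq.1 h)
        rw [hκinv, hrep, hrep] at h'
        exact (by decide : ∀ a b : P3, star (pinv a) b = 0 → a = b) p q h'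
      · induction g using QuotientGroup.induction_on with
        | _ r => exact ⟨κ r, QuotientGroup.eq.2 (hdiff _ _ (hrep _))⟩
    have hsingle : ∀ p, twist B.ψ (cw (rep p) w₀) =
        Pi.mulSingle (((rep p)⁻¹ : T) : T ⧸ W T) (Multiplicative.ofAdd 1) := by
      intro p
      funext g
      induction g using QuotientGroup.induction_on with
      | _ r =>
        rw [twist_apply]
        show B.ψ (cw r (cw (rep p) w₀)) = _
        rw [cw_mul]
        by_cases h : r * rep p ∈ W T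
        · have e : (r : T ⧸ W T) = (((rep p)⁻¹ : T) : T ⧸ W T) := by
            rw [QuotientGroup.mk_inv]
            exact eq_inv_of_mul_eq_one_left ((QuotientGroup.eq_one_iff _).2 h)
          rw [e, Pi.mulSingle_eq_same]
          have h' := (hw (r * rep p)).1 h
          revert h'
          generalize B.ψ (cw (r * rep p) w₀) = a
          revert a
          decide
        · rw [(hw _).2 h, Pi.mulSingle_eq_of_ne]
          intro e
          refine h ((QuotientGroup.eq_one_iff _).1 ?_)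
          rw [QuotientGroup.mk_mul, e, QuotientGroup.mk_inv, inv_mul_cancel]
    haveI := Fintype.ofFinite (T ⧸ W T)
    have htot : γ σ = ∏ p, γ (cw (rep p) w₀) := by
      rw [← hχ σ, hσ1, ← Finset.univ_prod_mulSingle (fun _ : T ⧸ W T => Multiplicative.ofAdd (1 : ZMod 2)), map_prod]
      symm
      refine Fintype.prod_equiv ((Equiv.ofBijective _ hτ).trans (Equiv.inv _)) _ _ fun p => ?_
      rw [← hχ, hsingle]
      rfl
    have h0 : γ σ = 1 := by rw [hγ]; show Multiplicative.ofAdd (beta w₀ σ) = 1; rw [H.beta_comm, hall]; rfl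
    rw [h0, hγ] at htot
    simp only [MonoidHom.mk'_apply] at htot
    rw [← ofAdd_sum] at htot
    rw [hf]
    exact Multiplicative.ofAdd.injective htot.symm
  have hnext : ∀ p, f (star p (0, 0, 1)) = f p := by
    have hexp : f (0, 0, 0) + f (0, 0, 1) + f (0, 1, 0) + f (0, 1, 1) + f (1, 0, 0) + f (1, 0, 1) + f (1, 1, 0) +
        f (1, 1, 1) = 0 := by
      refine Eq.trans ?_ hsum
      rw [show (Finset.univ : Finset P3) = {(0, 0, 0), (0, 0, 1), (0, 1, 0), (0, 1, 1), (1, 0, 0), (1, 0, 1),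
        (1, 1, 0), (1, 1, 1)} by decide]
      simp [add_assoc]
    rw [hfK _ rfl, hfK _ rfl, hfK _ rfl, hfK _ rfl] at hexp
    have h11 : f (1, 1, 1) = f (1, 1, 0) := hfinv (1, 1, 0)
    rw [h11] at hexp
    simp only [zero_add, add_assoc, CharTwo.add_self_eq_zero, add_zero] at hexp
    have h10 := CharTwo.add_eq_zero.1 hexp
    rintro ⟨a, b, c⟩
    have e : star (a, b, c) (0, 0, 1) = (a, b, c + 1) := by revert a b c; decide
    rw [e]
    fin_cases a
    · exact (hfK _ rfl).trans (hfK _ rfl).symm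
    · fin_cases b <;> fin_cases c
      · exact h10.symm
      · exact h10
      · exact h11
      · exact h11.symm
  have hτbij : Function.Bijective fun x : Pt => ((rep (lbl x) : T) : T ⧸ W T) := by
    refine ⟨fun x y h => lbl_bij.1 ?_, fun g => ?_⟩
    · have h' := (hκ0 _).2 (QuotientGroup.eq.1 h)
      rw [hκinv, hrep, hrep] at h'
      revert h'
      generalize lbl x = p
      generalize lbl y = q
      revert p q
      decide
    · induction g using QuotientGroup.induction_on with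
      | _ r =>
        obtain ⟨x, hx⟩ := lbl_bij.2 (κ r)
        exact ⟨x, QuotientGroup.eq.2 (hdiff _ _ ((hrep _).trans hx))⟩
  refine H.core_false B w₀ (fun x => rep (lbl x)) hτbij hw (fun p i => ?_) ?_
  · rw [hbt, hbt, hrep, hrep, hrep, lbl_next, hnext]
    exact CharTwo.add_self_eq_zero _
  · rw [hbt, hrep, hrep]
    exact hfK _ (by decide)

theorem Z3_elem {N : Subgroup T} [N.Normal] (hle : N ≤ Z T 3) (hN : ¬ N ≤ Z T 2) : N = Z T 3 :=
  le_antisymm hle (H.normal_cases (N := N) (k := 2) (by norm_num) hN)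

/-- The derived group of `W` is the third centre. -/
theorem commutator_eq : (commutator ↥(W T)).map (W T).subtype = Z T 3 := by
  haveI := H.nilpotent
  haveI : ((commutator ↥(W T)).map (W T).subtype).Normal := ConjAct.normal_of_characteristic_of_normal
  refine H.Z3_elem ?_ fun h => ?_
  · rintro _ ⟨u, hu, rfl⟩
    exact H.frattini_le u (haveI : Fact (Nat.Prime 2) := ⟨Nat.prime_two⟩
      CfsgLib.Coprime.commutator_le_frattini (H.hT.to_subgroup _) hu)
  · obtain ⟨s, hs, hs'⟩ := H.exists_Z_sub (k := 3) le_rfl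
    exact H.not_central (σ := ⟨s, H.Z4_le_W hs⟩) hs hs' fun w => phi_eq_zero.2
      (h (Subgroup.mem_map_of_mem _ (commutator_mem_commutator (mem_top _) (mem_top _))))

theorem center_eq : (center ↥(W T)).map (W T).subtype = Z T 3 := by
  haveI := H.nilpotent
  haveI : ((center ↥(W T)).map (W T).subtype).Normal := ConjAct.normal_of_characteristic_of_normal
  refine le_antisymm ?_ fun z hz => ⟨⟨z, H.Z3_le_W hz⟩, mem_center_iff.2 fun g => Subtype.ext
    (H.Z3_comm hz g.2).eq.symm, rfl⟩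
  by_contra h
  obtain ⟨s, hs, hs'⟩ := H.exists_Z_sub (k := 3) le_rfl
  obtain ⟨u, hu, e⟩ := H.normal_cases (N := (center ↥(W T)).map (W T).subtype) le_rfl h hs
  subst e
  refine H.not_central (σ := u) hs hs' fun w => ?_
  rw [beta, commutatorElement_eq_one_iff_commute.2 (mem_center_iff.1 hu w).symm, phi_eq_zero]
  exact one_mem _

theorem Z3_sq {z : T} (hz : z ∈ Z T 3) : z * z = 1 := by
  obtain ⟨u, hu, rfl⟩ := H.commutator_eq.ge hz
  have hcl : u * u = 1 := by
    rw [commutator_eq_closure] at hu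
    refine closure_induction (p := fun g _ => g * g = 1) ?_ (one_mul 1) (fun a b ha hb h1 h2 => ?_)
      (fun a _ h => by rw [← mul_inv_rev, h, inv_one]) hu
    · rintro _ ⟨a, b, rfl⟩
      have h1 : ⁅a, b * b⁆ = 1 := commutatorElement_eq_one_iff_commute.2
        (Subtype.ext (H.Z3_comm (H.sq_mem b) a.2).symm.eq)
      rwa [H.cm_mul] at h1
    · rw [← commutator_eq_closure] at ha
      have h3 : (a : T) ∈ Z T 3 := H.commutator_eq.le (Subgroup.mem_map_of_mem _ ha)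
      have hab : Commute b a := (Subtype.ext (H.Z3_comm h3 b.2).eq : a * b = b * a).symm
      rw [hab.mul_mul_mul_comm, h1, h2, mul_one]
  exact congrArg Subtype.val hcl

/-- The quotient by `W`. -/
theorem quotient_dihedral : ∃ f : T →* DihedralGroup 4, Function.Surjective f ∧ f.ker = W T := by
  obtain ⟨z3, h3, h3'⟩ := H.exists_Z_sub (k := 2) (by norm_num)
  obtain ⟨κ, hκsurj, hmul, hκ0, -, -, -⟩ := H.exists_coords h3 h3' (H.Z3_sq h3)
  refine ⟨MonoidHom.mk' (fun t => toD4 (κ t)) fun a b => by rw [hmul, toD4_mul], fun g => ?_, ?_⟩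
  · obtain ⟨p, rfl⟩ := toD4_surj g
    obtain ⟨t, rfl⟩ := hκsurj p
    exact ⟨t, rfl⟩
  · ext t
    rw [MonoidHom.mem_ker, ← hκ0]
    exact ⟨toD4_eq_one _, fun h => by show toD4 (κ t) = 1; rw [h]; decide⟩

end Hyp

end CfsgLib.PGroup.RudvalisType
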