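/-
Weak closure of the centraliser of the third centre and triviality of odd automorphisms.
-/
import Cfsg.Agent.Lib.PGroup.RudvalisType.Claim

set_option autoImplicit false

namespace CfsgLib.PGroup.RudvalisType

open Subgroup
open scoped commutatorElement

variable {T : Type*} [Group T] [Finite T]

namespace Hyp

variable (H : Hyp T)
include H

/-- A subgroup looking like `W` is `W`. -/
theorem eq_W (W₁ Y : Subgroup T) (hcard : Nat.card W₁ = 2 ^ 11) (hY8 : Nat.card Y ≤ 8)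
    (hcen : ∀ y ∈ Y, ∀ u ∈ W₁, y * u = u * y) (hsq : ∀ u ∈ W₁, u * u ∈ Y)
    (hcm : ∀ u ∈ W₁, ∀ v ∈ W₁, ⁅u, v⁆ ∈ Y) : W₁ = W T := by
  classical
  obtain ⟨-, hi, hW11, hF, -⟩ := H.main_bound
  by_contra hne
  obtain ⟨z, hz, hzY⟩ : ∃ z ∈ Z T 3, z ∉ Y := by
    by_contra hc
    push Not at hc
    refine hne (Subgroup.eq_of_le_of_card_ge (fun u hu => mem_centralizer_iff.2 fun x hx => ?_) (by rw [hW11, hcard]))
    exact hcen x (hc x hx) u hu
  obtain ⟨A, hA⟩ : ∃ A, A = W₁.subgroupOf (W T) := ⟨_, rfl⟩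
  have hA8 : A.index ≤ 8 := by
    rw [hA]
    show W₁.relIndex (W T) ≤ 8
    have h1 : W₁.relIndex (W T) ≤ W₁.index := by
      rw [← relIndex_top_right W₁]
      exact relIndex_le_of_le_right le_top (by rw [relIndex_top_right]; exact Subgroup.index_ne_zero_of_finite)
    have h2 := Subgroup.index_mul_card W₁
    rw [hcard, H.main_bound.1] at h2
    omega
  by_cases hzA : (⟨z, H.Z3_le_W hz⟩ : W T) ∈ A
  · have hsqF : ∀ u : A, u * u ∈ ((Y.subgroupOf (W T)).subgroupOf A) := fun u => by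
      have hu : ((u : W T) : T) ∈ W₁ := mem_subgroupOf.1 (hA.le u.2)
      exact hsq _ hu
    have hcmF : ∀ u v : A, ⁅u, v⁆ ∈ ((Y.subgroupOf (W T)).subgroupOf A) := fun u v => by
      have hu : ((u : W T) : T) ∈ W₁ := mem_subgroupOf.1 (hA.le u.2)
      have hv : ((v : W T) : T) ∈ W₁ := mem_subgroupOf.1 (hA.le v.2)
      simp only [mem_subgroupOf]
      convert hcm _ hu _ hv using 1
      simp [commutatorElement_def]
    obtain ⟨ψ, -, hψ⟩ := exists_hom hsqF hcmF (s := ⟨_, hzA⟩) fun h => hzY h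
    have hk : ψ.ker.index ≤ 2 := by
      rw [index_ker]
      exact (Subgroup.card_le_card_group _).trans (by simp)
    have hidx : (ψ.ker.map A.subtype).index ≤ 16 := by
      rw [index_map_subtype]
      calc ψ.ker.index * A.index ≤ 2 * 8 := Nat.mul_le_mul hk hA8
        _ = 16 := rfl
    obtain ⟨u, hu, e⟩ := hF.ge hz
    obtain ⟨a, ha, ea⟩ := H.hd _ hidx hu
    exact hψ ((show (⟨_, hzA⟩ : A) = a from Subtype.ext (Subtype.ext (by
      show z = (((a : A) : W T) : T)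
      exact e.symm.trans (congrArg Subtype.val ea).symm))) ▸ MonoidHom.mem_ker.1 ha)
  · obtain ⟨u, hu, e⟩ := hF.ge hz
    have h := H.hd A (hA8.trans (by norm_num)) hu
    refine hzA ?_
    have : (⟨z, H.Z3_le_W hz⟩ : W T) = u := Subtype.ext e.symm
    rw [this]; exact h

omit H in
theorem eq_one_of_pow {a : T} (hT : IsPGroup 2 T) {m : ℕ} (hm : Odd m) (h : a ^ m = 1) : a = 1 := by
  obtain ⟨k, hk⟩ := hT a
  exact orderOf_eq_one_iff.1 (Nat.eq_one_of_dvd_coprimes (Nat.Coprime.pow_left k (Nat.coprime_two_left.2 hm))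
    (orderOf_dvd_of_pow_eq_one hk) (orderOf_dvd_of_pow_eq_one h))

omit H in
/-- An automorphism of odd order moving `v` by a fixed element modulo `L` fixes it modulo `L`. -/
theorem step (hT : IsPGroup 2 T) (α : MulAut T) {m : ℕ} (hm : Odd m) (hα : α ^ m = 1) (L : Subgroup T) [L.Normal]
    (hL : ∀ x ∈ L, α x ∈ L) {v : T} (hd : (v⁻¹ * α v)⁻¹ * α (v⁻¹ * α v) ∈ L) : v⁻¹ * α v ∈ L := by
  obtain ⟨d, hde⟩ : ∃ d, d = v⁻¹ * α v := ⟨_, rfl⟩
  rw [← hde] at hd ⊢
  have hpow : ∀ k : ℕ, QuotientGroup.mk' L ((α ^ k) v) = QuotientGroup.mk' L v * QuotientGroup.mk' L d ^ k := by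
    intro k
    induction k with
    | zero => simp
    | succ k ih =>
      have h1 : QuotientGroup.mk' L (α (v * d ^ k)) = QuotientGroup.mk' L v * QuotientGroup.mk' L d ^ (k + 1) := by
        have e2 : QuotientGroup.mk' L (α d) = QuotientGroup.mk' L d := ((QuotientGroup.eq (s := L)).2 hd).symm
        rw [map_mul, map_pow, map_mul, map_pow, e2, show α v = v * d by rw [hde, mul_inv_cancel_left], map_mul,
          mul_assoc, ← pow_succ']
      rw [pow_succ', MulAut.mul_apply, ← h1]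
      refine (QuotientGroup.eq (s := L)).2 ?_
      have h2 : ((α ^ k) v)⁻¹ * (v * d ^ k) ∈ L :=
        (QuotientGroup.eq (s := L)).1 (by simpa using ih)
      have h3 := hL _ h2
      rwa [map_mul, map_inv] at h3
  have h := hpow m
  rw [hα, MulAut.one_apply, left_eq_mul] at h
  have hTL : IsPGroup 2 (T ⧸ L) := hT.to_quotient L
  exact (QuotientGroup.eq_one_iff d).1 (eq_one_of_pow hTL hm h)

omit H in
theorem Z_map (α : MulAut T) (k : ℕ) {x : T} (hx : x ∈ Z T k) : α x ∈ Z T k :=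
  characteristic_iff_map_le.1 (inferInstance : (Z T k).Characteristic) α ⟨x, hx, rfl⟩

theorem step_Z (α : MulAut T) {m : ℕ} (hm : Odd m) (hα : α ^ m = 1) {k : ℕ} (hk : k ≤ 3) {v : T}
    (hv : v ∈ Z T (k + 1)) : v⁻¹ * α v ∈ Z T k := by
  classical
  by_cases hvk : v ∈ Z T k
  · exact mul_mem (inv_mem hvk) (Z_map α k hvk)
  have h : α v ∈ Z T k ∨ v⁻¹ * α v ∈ Z T k := mem_or (Z_mono (Nat.le_succ k))
    (by rw [H.card_Z (by omega), H.card_Z (by omega), Nat.succ_eq_add_one, pow_succ']) hv hvk (Z_map α _ hv)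
  refine h.resolve_left fun h' => hvk ?_
  have := Z_map α⁻¹ k h'
  simpa [← MulAut.mul_apply] using this

theorem fix_Z (α : MulAut T) {m : ℕ} (hm : Odd m) (hα : α ^ m = 1) : ∀ k ≤ 3, ∀ v ∈ Z T k, α v = v := by
  intro k
  induction k with
  | zero =>
    intro _ v hv
    rw [Z, Subgroup.upperCentralSeries_zero, Subgroup.mem_bot] at hv
    rw [hv, map_one]
  | succ k ih =>
    intro hk v hv
    have hd := H.step_Z α hm hα (by omega) hv
    have hfix := ih (by omega) _ hd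
    have := step H.hT α hm hα ⊥ (fun x hx => by rw [Subgroup.mem_bot] at hx ⊢; rw [hx, map_one]) (v := v)
      (by rw [hfix, inv_mul_cancel]; exact one_mem _)
    rw [Subgroup.mem_bot, inv_mul_eq_one] at this
    exact this.symm

/-- Automorphisms of odd order are trivial. -/
theorem aut_trivial (α : MulAut T) {m : ℕ} (hm : Odd m) (hα : α ^ m = 1) : α = 1 := by
  classical
  haveI : Fact (Nat.Prime 2) := ⟨Nat.prime_two⟩
  haveI := H.nilpotent
  have h3 := H.fix_Z α hm hα 3 le_rfl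
  have hW : ∀ w ∈ W T, α w ∈ W T := fun w hw => mem_centralizer_iff.2 fun x hx => by
    rw [← h3 x hx, ← map_mul, ← map_mul, mem_centralizer_iff.1 hw x hx]
  have hDW : ∀ t, t⁻¹ * α t ∈ W T := fun t => mem_centralizer_iff.2 fun x hx => by
    have h1 := h3 _ (Subgroup.Normal.conj_mem inferInstance x (show x ∈ Z T 3 from hx) t)
    rw [map_mul, map_mul, map_inv, h3 x hx] at h1
    calc x * (t⁻¹ * α t) = t⁻¹ * (t * x * t⁻¹) * α t := by group
      _ = t⁻¹ * α t * x := by rw [← h1]; group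
  have hcomm3 : ∀ a ∈ W T, ∀ b ∈ W T, ⁅a, b⁆ ∈ Z T 3 := fun a ha b hb => by
    have := H.cm_mem3 ⟨a, ha⟩ ⟨b, hb⟩
    simpa [commutatorElement_def] using this
  -- trivial on `W` modulo the third centre
  let K : Subgroup T :=
    { carrier := {w | w ∈ W T ∧ w⁻¹ * α w ∈ Z T 3}
      one_mem' := ⟨one_mem _, by simp⟩
      mul_mem' := fun {a b} ⟨ha, ha'⟩ ⟨hb, hb'⟩ => ⟨mul_mem ha hb, by
        rw [map_mul, show (a * b)⁻¹ * (α a * α b) = b⁻¹ * (a⁻¹ * α a) * b * (b⁻¹ * α b) by group]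
        exact mul_mem (by simpa using Subgroup.Normal.conj_mem inferInstance _ ha' b⁻¹) hb'⟩
      inv_mem' := fun {a} ⟨ha, ha'⟩ => ⟨inv_mem ha, by
        rw [map_inv, show a⁻¹⁻¹ * (α a)⁻¹ = a * (a⁻¹ * α a)⁻¹ * a⁻¹ by group]
        exact Subgroup.Normal.conj_mem inferInstance _ (inv_mem ha') a⟩ }
  haveI : K.Normal := ⟨fun w ⟨hw, hw'⟩ t => ⟨Subgroup.Normal.conj_mem inferInstance _ hw t, by
    obtain ⟨d, hd⟩ : ∃ d, d = t⁻¹ * α t := ⟨_, rfl⟩
    have hdW : d ∈ W T := hd ▸ hDW t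
    rw [map_mul, map_mul, map_inv, show α t = t * d by rw [hd, mul_inv_cancel_left],
      show (t * w * t⁻¹)⁻¹ * (t * d * α w * (t * d)⁻¹) = t * (⁅w⁻¹, d⁆ * (d * (w⁻¹ * α w) * d⁻¹)) * t⁻¹ by
        simp [commutatorElement_def, mul_assoc]]
    exact Subgroup.Normal.conj_mem inferInstance _ (mul_mem (hcomm3 _ (inv_mem hw) _ hdW)
      (Subgroup.Normal.conj_mem inferInstance _ hw' d)) t⟩⟩
  have hWK : W T ≤ K := by
    by_contra hc
    obtain ⟨v, hv, hvK, hvc⟩ := meet hc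
    obtain ⟨d, hd⟩ : ∃ d, d = v⁻¹ * α v := ⟨_, rfl⟩
    have hdW : d ∈ W T := hd ▸ mul_mem (inv_mem hv) (hW v hv)
    have hdc : d ∈ Z T 4 := Subgroup.mem_upperCentralSeries_succ_iff.2 fun t => by
      -- compare `v` with its conjugate by `t`
      obtain ⟨k, hk⟩ : ∃ k, k = ⁅v, t⁆ := ⟨_, rfl⟩
      obtain ⟨e, he⟩ : ∃ e, e = t⁻¹ * α t := ⟨_, rfl⟩
      obtain ⟨hkW, hk3⟩ : k ∈ K := hk ▸ hvc t
      have hv' : t * v * t⁻¹ = k⁻¹ * v := by rw [hk]; simp [commutatorElement_def, mul_assoc]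
      have h1 : QuotientGroup.mk' (Z T 3) (α (t * v * t⁻¹)) = QuotientGroup.mk' (Z T 3) (t * v * d * t⁻¹) := by
        have hc : QuotientGroup.mk' (Z T 3) e * QuotientGroup.mk' (Z T 3) (α v) =
            QuotientGroup.mk' (Z T 3) (α v) * QuotientGroup.mk' (Z T 3) e := by
          rw [← commutatorElement_eq_one_iff_mul_comm, ← map_commutatorElement]
          exact (QuotientGroup.eq_one_iff _).2 (hcomm3 _ (he ▸ hDW t) _ (hW v hv))
        calc QuotientGroup.mk' (Z T 3) (α (t * v * t⁻¹))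
            = QuotientGroup.mk' (Z T 3) t * (QuotientGroup.mk' (Z T 3) e * QuotientGroup.mk' (Z T 3) (α v)) *
              (QuotientGroup.mk' (Z T 3) e)⁻¹ * (QuotientGroup.mk' (Z T 3) t)⁻¹ := by
              rw [he]; simp [mul_assoc]
          _ = _ := by rw [hc, hd]; simp [mul_assoc]
      have h2 : QuotientGroup.mk' (Z T 3) (α (t * v * t⁻¹)) = QuotientGroup.mk' (Z T 3) (k⁻¹ * v * d) := by
        have e3 : QuotientGroup.mk' (Z T 3) (α k) = QuotientGroup.mk' (Z T 3) k :=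
          ((QuotientGroup.eq (s := Z T 3)).2 hk3).symm
        rw [hv', map_mul, map_mul, map_inv, map_inv, e3, hd]
        simp [mul_assoc]
      have h3' := h1.symm.trans h2
      rw [show t * v * d * t⁻¹ = (t * v * t⁻¹) * (t * d * t⁻¹) by group, hv', map_mul, map_mul _ (k⁻¹ * v) d] at h3'
      have h5 : d⁻¹ * (t * d * t⁻¹) ∈ Z T 3 := (QuotientGroup.eq (s := Z T 3)).1 (mul_left_cancel h3').symm
      have h6 := Subgroup.Normal.conj_mem inferInstance _ (inv_mem h5) d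
      rwa [show d * (d⁻¹ * (t * d * t⁻¹))⁻¹ * d⁻¹ = ⁅d, t⁆ by simp [commutatorElement_def, mul_assoc]] at h6
    have h4 : d⁻¹ * α d ∈ Z T 3 := H.step_Z α hm hα le_rfl hdc
    exact hvK ⟨hv, step H.hT α hm hα (Z T 3) (fun x hx => Z_map α 3 hx) (v := v) (hd ▸ h4)⟩
  have hWfix : ∀ w ∈ W T, α w = w := fun w hw => by
    have := step H.hT α hm hα ⊥ (fun x hx => by rw [Subgroup.mem_bot] at hx ⊢; rw [hx, map_one]) (v := w)
      (by rw [h3 _ (hWK hw).2, inv_mul_cancel]; exact one_mem _)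
    rw [Subgroup.mem_bot, inv_mul_eq_one] at this
    exact this.symm
  refine MulEquiv.ext fun t => ?_
  have := step H.hT α hm hα ⊥ (fun x hx => by rw [Subgroup.mem_bot] at hx ⊢; rw [hx, map_one]) (v := t)
    (by rw [hWfix _ (hDW t), inv_mul_cancel]; exact one_mem _)
  rw [Subgroup.mem_bot, inv_mul_eq_one] at this
  exact this.symm

end Hyp

end CfsgLib.PGroup.RudvalisType
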